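import Cfsg.Agent.J4NonLocal.Pool

/-!
A subgroup listed by words with distinct images of a vector, and the part of it inside a proper overgroup of a given
group: every other coset leads to elements of orders divisible by 29, 37 and 43.
-/

set_option autoImplicit false
set_option maxRecDepth 8000
set_option synthInstance.maxSize 4000
set_option linter.style.haveILetI false

namespace Cfsg.Lib.J4NonLocal

open Cfsg Cfsg.Lib.J4Cert Subgroup

/-- The keys increase from a lower bound and stay below an upper bound. -/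
def incr {α : Type} (key : α → ℕ) (hi : ℕ) : ℕ → List α → Bool
  | lo, [] => Nat.ble lo hi
  | lo, a :: l => (fun k => Nat.ble lo k && incr key hi (k + 1) l) (key a)

/-- The keys increase through consecutive chunks, each with its upper bound. -/
def incrC {α : Type} (key : α → ℕ) : ℕ → List (List α × ℕ) → Bool
  | _, [] => true
  | lo, c :: l => incr key c.2 lo c.1 && incrC key c.2 l

theorem incr_bounds {α : Type} (key : α → ℕ) : ∀ (l : List α) (lo hi : ℕ), incr key hi lo l = true →
    lo ≤ hi ∧ (∀ a ∈ l, lo ≤ key a ∧ key a < hi) ∧ l.Pairwise fun a b => key a < key b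
  | [], lo, hi, h => ⟨Nat.le_of_ble_eq_true h, by simp, List.Pairwise.nil⟩
  | a :: l, lo, hi, h => by
    simp only [incr, Bool.and_eq_true, Nat.ble_eq] at h
    obtain ⟨h1, h2, h3⟩ := incr_bounds key l _ hi h.2
    refine ⟨by omega, fun b hb => ?_, List.pairwise_cons.mpr ⟨fun b hb => by have := (h2 b hb).1; omega, h3⟩⟩
    rcases List.mem_cons.mp hb with rfl | hb
    · exact ⟨h.1, by omega⟩
    · have := h2 b hb; exact ⟨by omega, this.2⟩

theorem incrC_pairwise {α : Type} (key : α → ℕ) : ∀ (l : List (List α × ℕ)) (lo : ℕ), incrC key lo l = true →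
    (∀ a ∈ l.flatMap (·.1), lo ≤ key a) ∧ (l.flatMap (·.1)).Pairwise fun a b => key a < key b
  | [], lo, _ => ⟨by simp, List.Pairwise.nil⟩
  | c :: l, lo, h => by
    simp only [incrC, Bool.and_eq_true] at h
    obtain ⟨h1, h2, h3⟩ := incr_bounds key c.1 lo c.2 h.1
    obtain ⟨h4, h5⟩ := incrC_pairwise key l c.2 h.2
    rw [List.flatMap_cons]
    refine ⟨fun a ha => ?_, List.pairwise_append.mpr ⟨h3, h5, fun a ha b hb => lt_of_lt_of_le (h2 a ha).2 (h4 b hb)⟩⟩
    rcases List.mem_append.mp ha with ha | ha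
    · exact (h2 a ha).1
    · exact h1.trans (h4 a ha)

theorem pairwise_inj {α : Type} {key : α → ℕ} {l : List α} (h : l.Pairwise fun a b => key a < key b) {a b : α}
    (ha : a ∈ l) (hb : b ∈ l) (e : key a = key b) : a = b := by
  obtain ⟨i, rfl⟩ := List.mem_iff_get.mp ha
  obtain ⟨j, rfl⟩ := List.mem_iff_get.mp hb
  rw [List.pairwise_iff_get] at h
  rcases lt_trichotomy i j with hl | hl | hl
  · exact absurd e (h i j hl).ne
  · rw [hl]
  · exact absurd e.symm (h j i hl).ne

theorem card_get {α : Type} (p : α → Bool) : ∀ l : List α,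
    (Finset.univ.filter fun j : Fin l.length => p (l.get j) = true).card = l.countP p
  | [] => rfl
  | a :: l => by
    refine (Fin.card_filter_univ_succ' (fun j : Fin (l.length + 1) => p ((a :: l).get j) = true)).trans ?_
    rw [List.countP_cons, ← card_get p l, Nat.add_comm]
    rfl

/-- The lists behind a count. -/
structure Plan where
  /-- The fixed vector. -/
  f : ℕ
  /-- A generic vector. -/
  w : ℕ
  /-- The elements fixing the vector. -/
  fix : List (List ℕ)
  /-- The left factors. -/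
  lef : List (List ℕ)
  /-- The middle factors. -/
  reps : List (List ℕ)
  /-- The right factors. -/
  rig : List (List ℕ)
  /-- The other elements, in chunks by key. -/
  chunks : List (List (ℕ × ℕ × ℕ) × ℕ)
  /-- The words with elements of orders 29, 37 and 43, for each middle factor. -/
  crt : List (ℕ × (List ℕ × ℕ) × (List ℕ × ℕ) × (List ℕ × ℕ))

namespace Plan

variable (D : Plan)

/-- All entries. -/
def ents : List (ℕ × ℕ × ℕ) := D.chunks.flatMap (·.1)

/-- The word of an entry. -/
def entW (e : ℕ × ℕ × ℕ) : List ℕ := D.lef.getD e.1 [] ++ D.reps.getD e.2.1 [] ++ D.rig.getD e.2.2 []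

/-- The entries with trivial middle factor. -/
def zeros : List (ℕ × ℕ × ℕ) := D.ents.filter fun e => e.2.1 == 0

/-- Letters are bounded. -/
def small (n : ℕ) (l : List (List ℕ)) : Bool := l.all fun w => w.all fun k => Nat.blt k n

/-- The shapes of the lists. -/
def shapeOK (pt : List (List ℕ)) (n : ℕ) : Bool :=
  decide (D.f < 2 ^ 112 ∧ D.w < 2 ^ 112) && small n D.fix && small n D.lef && small n D.reps && small n D.rig &&
    (D.reps.getD 0 [] == []) && D.fix.all (fun w => act pt w D.f == D.f) &&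
    D.ents.all fun e => Nat.blt e.2.1 D.reps.length

/-- The keys are distinct. -/
def keysOK (pt : List (List ℕ)) : Bool :=
  incr (fun w => act pt w D.w) (2 ^ 112) 0 D.fix && incrC (fun e => act pt (D.entW e) D.f) 0 D.chunks

/-- A word of a certificate: the letter 1000 stands for the middle factor. -/
def crtW (r : ℕ) (w : List ℕ) : List ℕ := w.flatMap fun k => bif Nat.beq k 1000 then D.reps.getD r [] else [k]

/-- Every middle factor but the first has its certificates, in the letters below a bound and itself. -/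
def crtOK (pt : List (List ℕ)) (n nM : ℕ) : Bool :=
  (D.crt.all fun c =>
    [(29, c.2.1), (37, c.2.2.1), (43, c.2.2.2)].all fun d =>
      d.2.1.all (fun k => Nat.blt k nM || Nat.beq k 1000) && ordCert pt n d.1 (D.crtW c.1 d.2.1, d.2.2)) &&
    (List.range D.reps.length).all fun r => r == 0 || D.crt.any fun c => c.1 == r

end Plan

variable {pm pt : List (List ℕ)} (P : Pool pm pt) (D : Plan)

theorem small_lt {n : ℕ} {L : List (List ℕ)} (h : Plan.small n L = true) :
    (∀ i, ∀ k ∈ L.getD i [], k < n) ∧ ∀ w ∈ L, ∀ k ∈ w, k < n := by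
  simp only [Plan.small, List.all_eq_true, Nat.blt_eq] at h
  refine ⟨fun i k hk => ?_, h⟩
  by_cases hi : i < L.length
  · rw [List.getD_eq_getElem _ _ hi] at hk
    exact h _ (List.getElem_mem hi) k hk
  · rw [List.getD_eq_default _ _ (Nat.le_of_not_lt hi)] at hk
    simp at hk

/-- All letters in use lie in a subgroup. -/
structure Plan.Inside (N : Subgroup Spor.J4) : Prop where
  fix : ∀ w ∈ D.fix, P.ev w ∈ N
  lef : ∀ i, P.ev (D.lef.getD i []) ∈ N
  reps : ∀ i, P.ev (D.reps.getD i []) ∈ N
  rig : ∀ i, P.ev (D.rig.getD i []) ∈ N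

theorem inside_of {N : Subgroup Spor.J4} {S : List ℕ} (hS : ∀ k ∈ S, P.el k ∈ N)
    (h : ([D.fix, D.lef, D.reps, D.rig].all fun L => L.all fun w => w.all fun k => S.elem k) = true) :
    D.Inside P N := by
  simp only [List.all_eq_true, List.mem_cons, List.not_mem_nil, or_false, forall_eq_or_imp, forall_eq,
    List.elem_iff] at h
  have key : ∀ {L : List (List ℕ)}, (∀ w ∈ L, ∀ k ∈ w, k ∈ S) → ∀ i, P.ev (L.getD i []) ∈ N := fun {L} hL i => by
    refine P.ev_mem fun k hk => hS k ?_
    by_cases hi : i < L.length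
    · rw [List.getD_eq_getElem _ _ hi] at hk
      exact hL _ (List.getElem_mem hi) k hk
    · rw [List.getD_eq_default _ _ (Nat.le_of_not_lt hi)] at hk
      simp at hk
  exact ⟨fun w hw => P.ev_mem fun k hk => hS k (h.1 w hw k hk), key h.2.1, key h.2.2.1, key h.2.2.2⟩

/-- The map from pairs of indices. -/
noncomputable def Plan.elem (p : Fin D.fix.length × Fin D.ents.length) : Spor.J4 :=
  P.ev (D.fix.get p.1) * P.ev (D.entW (D.ents.get p.2))

theorem Plan.entW_mem {N : Subgroup Spor.J4} (hN : D.Inside P N) (e : ℕ × ℕ × ℕ) : P.ev (D.entW e) ∈ N := by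
  rw [Plan.entW, P.ev_append, P.ev_append]
  exact mul_mem (mul_mem (hN.lef _) (hN.reps _)) (hN.rig _)

theorem Plan.elem_injective (hs : D.shapeOK pt pm.length = true) (hk : D.keysOK pt = true) :
    Function.Injective (D.elem P) := by
  simp only [Plan.shapeOK, Bool.and_eq_true, decide_eq_true_eq, List.all_eq_true, beq_iff_eq] at hs
  obtain ⟨⟨⟨⟨⟨⟨⟨⟨hf, hw⟩, hfs⟩, hls⟩, hrs⟩, hgs⟩, -⟩, hfx⟩, -⟩ := hs
  simp only [Plan.keysOK, Bool.and_eq_true] at hk
  have hpf := (incr_bounds _ _ _ _ hk.1).2.2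
  have hpe := (incrC_pairwise _ _ _ hk.2).2
  have hlt : ∀ e, ∀ k ∈ D.entW e, k < pm.length := by
    intro e k hk'
    simp only [Plan.entW, List.mem_append] at hk'
    rcases hk' with (h | h) | h
    exacts [(small_lt hls).1 _ k h, (small_lt hrs).1 _ k h, (small_lt hgs).1 _ k h]
  let F : J4Rep.Vec := ⟨D.f, hf⟩
  let W : J4Rep.Vec := ⟨D.w, hw⟩
  have hfF : ∀ w ∈ D.fix, img (P.ev w) F = F := fun w hw' => Subtype.ext (by
    rw [← P.act_eq w ((small_lt hfs).2 w hw') F]; exact hfx w hw')
  rintro ⟨i, j⟩ ⟨i', j'⟩ h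
  simp only [Plan.elem] at h
  have hj : D.ents.get j = D.ents.get j' := by
    refine pairwise_inj (key := fun e => act pt (D.entW e) D.f) hpe (List.get_mem _ _) (List.get_mem _ _) ?_
    have h' := congrArg (fun g => (img g F).1) h
    simp only [img_mul, hfF _ (List.get_mem _ _)] at h'
    rw [← P.act_eq _ (hlt _) F, ← P.act_eq _ (hlt _) F] at h'
    exact h'
  rw [hj] at h
  have hi : D.fix.get i = D.fix.get i' := by
    refine pairwise_inj (key := fun w => act pt w D.w) hpf (List.get_mem _ _) (List.get_mem _ _) ?_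
    rw [show D.w = W.1 from rfl, P.act_eq _ ((small_lt hfs).2 _ (List.get_mem _ _)) W,
      P.act_eq _ ((small_lt hfs).2 _ (List.get_mem _ _)) W, mul_right_cancel h]
  have n1 : D.fix.Nodup := hpf.imp fun hl he => hl.ne (congrArg (fun w => act pt w D.w) he)
  have n2 : D.ents.Nodup := hpe.imp fun hl he => hl.ne (congrArg (fun e => act pt (D.entW e) D.f) he)
  exact Prod.ext (n1.get_inj_iff.mp hi) (n2.get_inj_iff.mp hj)

/-- A subgroup of at most the counted order containing all listed elements consists of them. -/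
theorem Plan.cover (hs : D.shapeOK pt pm.length = true) (hk : D.keysOK pt = true) {N : Subgroup Spor.J4}
    (hN : D.Inside P N) (hc : Nat.card N ≤ D.fix.length * D.ents.length) :
    Nat.card N = D.fix.length * D.ents.length ∧ ∀ g ∈ N, ∃ p, D.elem P p = g := by
  haveI := finite_J4
  let Φ : Fin D.fix.length × Fin D.ents.length → ↥N := fun p =>
    ⟨D.elem P p, mul_mem (hN.fix _ (List.get_mem _ _)) (D.entW_mem P hN _)⟩
  have hinj : Function.Injective Φ := fun p q h => D.elem_injective P hs hk (congrArg Subtype.val h)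
  have hle := Nat.card_le_card_of_injective Φ hinj
  rw [Nat.card_prod, Nat.card_fin, Nat.card_fin] at hle
  have he := le_antisymm hc hle
  refine ⟨he, fun g hg => ?_⟩
  obtain ⟨p, hp⟩ := ((Nat.bijective_iff_injective_and_card Φ).mpr
    ⟨hinj, by rw [Nat.card_prod, Nat.card_fin, Nat.card_fin, he]⟩).2 ⟨g, hg⟩
  exact ⟨p, congrArg Subtype.val hp⟩

/-- A certificate shows that three primes divide the order of a subgroup. -/
theorem Plan.three_dvd {nM r : ℕ} (hc : D.crtOK pt pm.length nM = true) (hr : r < D.reps.length) (hr0 : r ≠ 0)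
    {H : Subgroup Spor.J4} (hH : ∀ k < nM, P.el k ∈ H) (hrep : P.ev (D.reps.getD r []) ∈ H) :
    29 ∣ Nat.card H ∧ 37 ∣ Nat.card H ∧ 43 ∣ Nat.card H := by
  haveI := finite_J4
  simp only [Plan.crtOK, Bool.and_eq_true, List.all_eq_true, Bool.or_eq_true, beq_iff_eq, List.any_eq_true,
    List.mem_range, List.mem_cons, List.not_mem_nil, or_false, Nat.blt_eq, Nat.beq_eq] at hc
  obtain ⟨c, hcm, rfl⟩ := (hc.2 r hr).resolve_left hr0
  have key : ∀ (q : ℕ) (d : List ℕ × ℕ), (∀ k ∈ d.1, k < nM ∨ k = 1000) → q.Prime →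
      ordCert pt pm.length q (D.crtW c.1 d.1, d.2) = true → q ∣ Nat.card H := by
    intro q d hd hq ho
    have hmem : P.ev (D.crtW c.1 d.1) ∈ H := by
      rw [Plan.crtW]
      generalize d.1 = w at hd
      induction w with
      | nil => exact one_mem H
      | cons a w ih =>
        rw [List.flatMap_cons, P.ev_append]
        refine mul_mem ?_ (ih fun k hk => hd k (List.mem_cons_of_mem _ hk))
        by_cases ha : a = 1000
        · subst ha; exact hrep
        · have hb : Nat.beq a 1000 = false := by rw [← Bool.not_eq_true, Nat.beq_eq]; exact ha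
          rw [hb, cond_false, P.ev_single]
          exact hH a ((hd a List.mem_cons_self).resolve_right ha)
    exact (P.dvd_order hq ho).trans (H.orderOf_dvd_natCard hmem)
  refine ⟨key 29 c.2.1 ?_ (by norm_num) ?_, key 37 c.2.2.1 ?_ (by norm_num) ?_, key 43 c.2.2.2 ?_ (by norm_num) ?_⟩
  · exact (hc.1 c hcm (29, c.2.1) (Or.inl rfl)).1
  · exact (hc.1 c hcm (29, c.2.1) (Or.inl rfl)).2
  · exact (hc.1 c hcm (37, c.2.2.1) (Or.inr (Or.inl rfl))).1
  · exact (hc.1 c hcm (37, c.2.2.1) (Or.inr (Or.inl rfl))).2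
  · exact (hc.1 c hcm (43, c.2.2.2) (Or.inr (Or.inr rfl))).1
  · exact (hc.1 c hcm (43, c.2.2.2) (Or.inr (Or.inr rfl))).2

/-- A subgroup that contains the letters below a bound and is not divisible by the three primes meets the counted
group only in the entries with trivial middle factor. -/
theorem Plan.forced {nM : ℕ} (hs : D.shapeOK pt pm.length = true) (hk : D.keysOK pt = true)
    (hc : D.crtOK pt pm.length nM = true)
    (hM : ((D.fix ++ D.lef ++ D.rig).all fun w => w.all fun k => Nat.blt k nM) = true)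
    {N : Subgroup Spor.J4} (hN : D.Inside P N) (hcard : Nat.card N ≤ D.fix.length * D.ents.length)
    {H : Subgroup Spor.J4} (hH : ∀ k < nM, P.el k ∈ H)
    (hbig : ¬ (29 ∣ Nat.card H ∧ 37 ∣ Nat.card H ∧ 43 ∣ Nat.card H)) :
    Nat.card ↥(H ⊓ N) = D.fix.length * D.zeros.length ∧
      ∀ g ∈ H ⊓ N, ∃ p, (D.ents.get p.2).2.1 = 0 ∧ D.elem P p = g := by
  haveI := finite_J4
  obtain ⟨-, hcov⟩ := D.cover P hs hk hN hcard
  simp only [List.all_eq_true, List.mem_append, Nat.blt_eq] at hM
  have hs' := hs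
  simp only [Plan.shapeOK, Bool.and_eq_true, List.all_eq_true, beq_iff_eq, Nat.blt_eq] at hs'
  have hrepl : ∀ e ∈ D.ents, e.2.1 < D.reps.length := hs'.2
  have h0 : D.reps.getD 0 [] = [] := hs'.1.1.2
  have getH : ∀ {L : List (List ℕ)}, (∀ w ∈ L, ∀ k ∈ w, k < nM) → ∀ i, P.ev (L.getD i []) ∈ H := fun {L} hL i => by
    refine P.ev_mem fun k hk => hH k ?_
    by_cases hi : i < L.length
    · rw [List.getD_eq_getElem _ _ hi] at hk
      exact hL _ (List.getElem_mem hi) k hk
    · rw [List.getD_eq_default _ _ (Nat.le_of_not_lt hi)] at hk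
      simp at hk
  have hfixH : ∀ w ∈ D.fix, P.ev w ∈ H := fun w hw => P.ev_mem fun k hk => hH k (hM w (Or.inl (Or.inl hw)) k hk)
  have hlH := getH (L := D.lef) fun w hw => hM w (Or.inl (Or.inr hw))
  have hrH := getH (L := D.rig) fun w hw => hM w (Or.inr hw)
  have zero_of : ∀ g ∈ H ⊓ N, ∃ p, (D.ents.get p.2).2.1 = 0 ∧ D.elem P p = g := by
    rintro g ⟨hgH, hgN⟩
    obtain ⟨p, rfl⟩ := hcov g hgN
    refine ⟨p, by_contra fun hne => hbig ?_, rfl⟩
    refine D.three_dvd P hc (hrepl _ (List.get_mem _ _)) hne hH ?_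
    simp only [Plan.elem, Plan.entW, P.ev_append] at hgH
    exact (mul_mem_cancel_left (hlH _)).mp ((mul_mem_cancel_right (hrH _)).mp
      ((mul_mem_cancel_left (hfixH _ (List.get_mem _ _))).mp hgH))
  refine ⟨?_, zero_of⟩
  let Z := {j : Fin D.ents.length // (D.ents.get j).2.1 = 0}
  have hZ : ∀ j : Z, P.ev (D.entW (D.ents.get j.1)) ∈ H := fun j => by
    rw [Plan.entW, j.2, h0, List.append_nil, P.ev_append]
    exact mul_mem (hlH _) (hrH _)
  let Ψ : Fin D.fix.length × Z → ↥(H ⊓ N) := fun p => ⟨D.elem P (p.1, p.2.1),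
    mul_mem (hfixH _ (List.get_mem _ _)) (hZ p.2), mul_mem (hN.fix _ (List.get_mem _ _)) (D.entW_mem P hN _)⟩
  have hb : Function.Bijective Ψ := by
    refine ⟨fun p q h => ?_, fun g => ?_⟩
    · have := D.elem_injective P hs hk (congrArg Subtype.val h)
      have h1 : p.1 = q.1 := (Prod.ext_iff.mp this).1
      exact Prod.ext h1 (Subtype.ext (Prod.ext_iff.mp this).2)
    · obtain ⟨p, hp0, hp⟩ := zero_of g.1 g.2
      exact ⟨(p.1, ⟨p.2, hp0⟩), Subtype.ext hp⟩
  rw [← Nat.card_eq_of_bijective Ψ hb, Nat.card_prod, Nat.card_fin, Nat.card_eq_fintype_card]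
  congr 1
  rw [Plan.zeros, ← List.countP_eq_length_filter, ← card_get, Fintype.card_subtype]
  simp only [beq_iff_eq]

end Cfsg.Lib.J4NonLocal
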