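import Mathlib

/-!
A subgroup in which the normaliser of an element of prime order has order prime to the square of it.
-/

set_option autoImplicit false
set_option linter.style.haveILetI false

namespace Cfsg.Lib.J4NonLocal

open Subgroup

variable {G : Type*} [Group G] [Finite G]

theorem card_normalizer_zpowers_le {p : ℕ} [hp : Fact p.Prime] {a : G} (ha : orderOf a = p) :
    Nat.card ↥(normalizer (zpowers a : Set G)) ≤ (p - 1) * Nat.card ↥(centralizer ({a} : Set G)) := by
  classical
  set Q := zpowers a
  let f := Q.normalizerMonoidHom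
  have hr : Nat.card f.range ≤ p - 1 := by
    have h : Nat.card (MulAut ↥Q) = p - 1 := by
      rw [IsCyclic.card_mulAut, Nat.card_zpowers, ha, Nat.totient_prime hp.out]
    exact (Nat.le_of_dvd (h ▸ Nat.sub_pos_of_lt hp.out.one_lt) (card_subgroup_dvd_card _)).trans h.le
  have hk : Nat.card f.ker ≤ Nat.card ↥(centralizer ({a} : Set G)) := by
    have hle : f.ker.map (normalizer (Q : Set G)).subtype ≤ centralizer ({a} : Set G) := by
      rintro _ ⟨g, hg, rfl⟩
      have hg' : g ∈ (centralizer (Q : Set G)).subgroupOf (normalizer (Q : Set G)) :=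
        Q.normalizerMonoidHom_ker ▸ hg
      rw [mem_subgroupOf] at hg'
      exact centralizer_le (Set.singleton_subset_iff.mpr (mem_zpowers a)) hg'
    rw [← card_map_of_injective (normalizer (Q : Set G)).subtype_injective]
    exact card_le_of_le hle
  rw [← f.ker.card_mul_index, index_ker, mul_comm]
  exact Nat.mul_le_mul hr hk

/-- The count of the cyclic Sylow subgroups of a subgroup. -/
theorem cyclic_count {p : ℕ} [hp : Fact p.Prime] {M : Subgroup G} {a : G} (ha : orderOf a = p) (haM : a ∈ M)
    {e : ℕ} (he : Nat.card ↥(M ⊓ normalizer (zpowers a : Set G)) = e) (h2 : ¬ p ^ 2 ∣ e) :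
    ¬ p ^ 2 ∣ Nat.card M ∧ e ∣ Nat.card M ∧ (Nat.card M / e) % p = 1 := by
  classical
  set Q := (zpowers a).subgroupOf M with hQdef
  have hQle : zpowers a ≤ M := zpowers_le.mpr haM
  have hQc : Nat.card Q = p := by
    rw [Nat.card_congr (subgroupOfEquivOfLe hQle).toEquiv, Nat.card_zpowers, ha]
  have hN : normalizer (Q : Set M) = (normalizer (zpowers a : Set G)).subgroupOf M :=
    (subgroupOf_normalizer_eq hQle).symm
  have hNc : Nat.card (normalizer (Q : Set M)) = e := by
    rw [hN, ← inf_subgroupOf_left, Nat.card_congr (subgroupOfEquivOfLe inf_le_left).toEquiv, he]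
  obtain ⟨P, hP⟩ := (IsPGroup.of_card (n := 1) (by rw [hQc, pow_one]) : IsPGroup p Q).exists_le_sylow
  have heq : Q = (P : Subgroup M) := by
    by_contra hne
    have hlt : Q < (P : Subgroup M) := lt_of_le_of_ne hP hne
    haveI := P.2.isNilpotent
    have hlt' : (Q.subgroupOf (P : Subgroup M)) < ⊤ := by
      rw [lt_top_iff_ne_top, ne_eq, subgroupOf_eq_top]
      exact fun h => hne (le_antisymm hP h)
    have hnc := Group.normalizerCondition_of_isNilpotent _ hlt'
    rw [← subgroupOf_normalizer_eq hP] at hnc
    have hlt2 : Q < (P : Subgroup M) ⊓ normalizer (Q : Set M) := by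
      refine lt_of_le_of_ne (le_inf hP le_normalizer) fun h => hnc.ne ?_
      rw [← inf_subgroupOf_left (normalizer (Q : Set M)), ← h]
    set K := (P : Subgroup M) ⊓ normalizer (Q : Set M)
    obtain ⟨i, hi⟩ := IsPGroup.iff_card.mp (P.2.to_le (inf_le_left : K ≤ _))
    have hge : 2 ≤ i := by
      by_contra hlt3
      have hcle : Nat.card K ≤ Nat.card Q := by
        rw [hi, hQc]
        exact (Nat.pow_le_pow_right hp.out.pos (by omega : i ≤ 1)).trans (pow_one p).le
      exact hlt2.ne (eq_of_le_of_card_ge hlt2.le hcle)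
    apply h2
    rw [← hNc]
    exact ((pow_dvd_pow p hge).trans (dvd_of_eq hi.symm)).trans (card_dvd_of_le inf_le_right)
  have hn := card_sylow_modEq_one p M
  have hidx : Nat.card (Sylow p M) = Nat.card M / e := by
    rw [Sylow.card_eq_index_normalizer P]
    show (normalizer ((P : Subgroup M) : Set M)).index = _
    rw [← heq]
    refine (Nat.div_eq_of_eq_mul_right (hNc ▸ Nat.card_pos) ?_).symm
    rw [← hNc, card_mul_index]
  refine ⟨fun hd => ?_, hNc ▸ card_subgroup_dvd_card _, ?_⟩
  · have h := P.card_eq_multiplicity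
    rw [← heq, hQc] at h
    have h1 : (Nat.card M).factorization p = 1 :=
      Nat.pow_right_injective hp.out.two_le (h.symm.trans (pow_one p).symm)
    have h2' := (hp.out.pow_dvd_iff_le_factorization Nat.card_pos.ne').mp hd
    omega
  · rw [← hidx]
    rw [Nat.ModEq, Nat.mod_eq_of_lt hp.out.one_lt] at hn
    exact hn

end Cfsg.Lib.J4NonLocal
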