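import Cfsg.Agent.J4NonLocal.Rows
import Cfsg.Agent.J4NonLocal.Cyclic

/-!
Conjugate elements and their centralisers.
-/

set_option autoImplicit false
set_option maxRecDepth 8000
set_option synthInstance.maxSize 4000
set_option linter.style.haveILetI false

namespace Cfsg.Lib.J4NonLocal

open Cfsg Subgroup

variable {G : Type*} [Group G]

/-- Conjugate elements have centralisers of the same order. -/
theorem card_cent_conj {a b g : G} (h : a * g = g * b) :
    Nat.card ↥(centralizer ({a} : Set G)) = Nat.card ↥(centralizer ({b} : Set G)) := by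
  have hb : b = g⁻¹ * a * g := by rw [mul_assoc, h, inv_mul_cancel_left]
  subst hb
  refine Nat.card_congr ((MulAut.conj g⁻¹).toEquiv.subtypeEquiv fun x => ?_)
  show x ∈ centralizer ({a} : Set G) ↔ MulAut.conj g⁻¹ x ∈ centralizer ({g⁻¹ * a * g} : Set G)
  rw [mem_centralizer_singleton_iff, mem_centralizer_singleton_iff, MulAut.conj_apply, inv_inv]
  constructor
  · intro hx
    calc g⁻¹ * x * g * (g⁻¹ * a * g) = g⁻¹ * (x * a) * g := by group
      _ = g⁻¹ * (a * x) * g := by rw [hx]
      _ = g⁻¹ * a * g * (g⁻¹ * x * g) := by group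
  · intro hx
    have := congrArg (fun y => g * y * g⁻¹) hx
    simpa [mul_assoc] using this

end Cfsg.Lib.J4NonLocal
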