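import Cfsg.Agent.J4Maximal.SylowEleven
import Cfsg.Agent.JankoFour.ClassNumber.Main

/-!
Facts about the presented fourth Janko group used for its non-local maximal subgroups, taken over from a group of
Janko-four type.
-/

set_option autoImplicit false
set_option maxRecDepth 8000
set_option synthInstance.maxSize 4000
set_option linter.style.haveILetI false

namespace Cfsg.Lib.J4NonLocal

open Cfsg Subgroup Cfsg.Lib.J4Maximal

/-- The facts. -/
structure Env : Prop where
  card : Nat.card Spor.J4 = ordJ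
  top : ∀ M : Subgroup Spor.J4, 29 ∣ Nat.card M → 37 ∣ Nat.card M → 43 ∣ Nat.card M → M = ⊤
  norm : ∀ q n N : ℕ, (q, n, N) ∈ [(5, 1, 26880), (7, 1, 2520), (11, 3, 319440), (23, 1, 506), (29, 1, 812),
      (31, 1, 310), (37, 1, 444), (43, 1, 602)] → ∀ U : Subgroup Spor.J4, Nat.card U = q ^ n →
    Nat.card ↥(normalizer (U : Set Spor.J4)) = N
  eleven : ∀ M : Subgroup Spor.J4, 11 ^ 3 ∣ Nat.card M → Nat.card (Sylow 11 M) % 121 = 1
  coatom : ∀ U : Subgroup Spor.J4, Nat.card U = 11 ^ 3 → IsCoatom (normalizer (U : Set Spor.J4))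
  facts : Cfsg.Lib.JankoFour.ClassNumber.Facts Spor.J4
  centX : Nat.card ↥(centralizer ({J4Eleven.eX} : Set Spor.J4)) ≤ 242

variable {G : Type*} [Group G] [Finite G]

theorem card_sylow_congr {A B : Type*} [Group A] [Group B] [Finite A] [Finite B] {p : ℕ} [Fact p.Prime]
    (f : A ≃* B) : Nat.card (Sylow p A) = Nat.card (Sylow p B) := by
  obtain ⟨P⟩ := (inferInstance : Nonempty (Sylow p A))
  have hf : Function.Surjective f.toMonoidHom := f.surjective
  rw [Sylow.card_eq_index_normalizer P, Sylow.card_eq_index_normalizer (P.mapSurjective hf)]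
  show _ = (normalizer (((P : Subgroup A).map f.toMonoidHom : Subgroup B) : Set B)).index
  rw [← map_equiv_normalizer_eq]
  refine Eq.trans ?_ (index_map_equiv _ f).symm
  rfl

theorem env_of [IsSimpleGroup G] (hG : ¬ IsMulCommutative G) {z : G} (hz : Cfsg.IsOfJankoFourTypeAt z)
    (e : G ≃* Spor.J4) : Env := by
  classical
  haveI := Cfsg.Lib.J4Cert.finite_J4
  have hJ : Cfsg.IsOfJankoFourType G := ⟨z, hz⟩
  have F := (Cfsg.Lib.JankoFour.ClassNumber.facts_of hG hJ e).map e
  have hback : ∀ M : Subgroup Spor.J4, (M.comap e.toMonoidHom).map e.toMonoidHom = M := fun M =>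
    map_comap_eq_self_of_surjective e.surjective M
  have hc : ∀ M : Subgroup Spor.J4, Nat.card (M.comap e.toMonoidHom) = Nat.card M := fun M => by
    conv_rhs => rw [← hback M]
    exact (card_map_of_injective e.injective).symm
  have hcard : Nat.card Spor.J4 = ordJ := (Nat.card_congr e.toEquiv).symm.trans (card_G hG hJ)
  have hN : ∀ U : Subgroup Spor.J4, Nat.card ↥(normalizer (U : Set Spor.J4)) =
      Nat.card ↥(normalizer ((U.comap e.toMonoidHom : Subgroup G) : Set G)) := fun U => by
    conv_lhs => rw [← hback U, ← map_equiv_normalizer_eq]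
    exact card_map_of_injective e.injective
  refine ⟨hcard, fun M h29 h37 h43 => ?_, ?_, fun M hM => ?_, fun U hU => ?_, F, ?_⟩
  · rw [← hback M, top_of_primes hG hz (M.comap e.toMonoidHom) (by rwa [hc]) (by rwa [hc]) (by rwa [hc])]
    exact map_top_of_surjective _ e.surjective
  · intro q n N hmem U hU
    rw [hN U]
    simp only [List.mem_cons, List.not_mem_nil, or_false, Prod.mk.injEq] at hmem
    rcases hmem with ⟨rfl, rfl, rfl⟩ | ⟨rfl, rfl, rfl⟩ | ⟨rfl, rfl, rfl⟩ | ⟨rfl, rfl, rfl⟩ | ⟨rfl, rfl, rfl⟩ |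
      ⟨rfl, rfl, rfl⟩ | ⟨rfl, rfl, rfl⟩ | ⟨rfl, rfl, rfl⟩
    · haveI : Fact (Nat.Prime 5) := ⟨by norm_num⟩
      obtain ⟨W, hW⟩ := sylow_of_card hG hJ (by decide +kernel) (by decide +kernel) _ ((hc U).trans hU)
      rw [← hW, norm_five hG hz W]; decide
    · haveI : Fact (Nat.Prime 7) := ⟨by norm_num⟩
      obtain ⟨W, hW⟩ := sylow_of_card hG hJ (by decide +kernel) (by decide +kernel) _ ((hc U).trans hU)
      rw [← hW, norm_seven hG hz W]; decide
    · haveI : Fact (Nat.Prime 11) := ⟨by norm_num⟩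
      obtain ⟨W, hW⟩ := sylow_of_card hG hJ (by decide +kernel) (by decide +kernel) _ ((hc U).trans hU)
      rw [← hW, norm_eleven hG hz W]; decide
    · haveI : Fact (Nat.Prime 23) := ⟨by norm_num⟩
      obtain ⟨W, hW⟩ := sylow_of_card hG hJ (by decide +kernel) (by decide +kernel) _ ((hc U).trans hU)
      rw [← hW, (norm_big hG hz).1 W]; decide
    · haveI : Fact (Nat.Prime 29) := ⟨by norm_num⟩
      obtain ⟨W, hW⟩ := sylow_of_card hG hJ (by decide +kernel) (by decide +kernel) _ ((hc U).trans hU)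
      rw [← hW, (norm_big hG hz).2.1 W]; decide
    · haveI : Fact (Nat.Prime 31) := ⟨by norm_num⟩
      obtain ⟨W, hW⟩ := sylow_of_card hG hJ (by decide +kernel) (by decide +kernel) _ ((hc U).trans hU)
      rw [← hW, (norm_big hG hz).2.2.1 W]; decide
    · haveI : Fact (Nat.Prime 37) := ⟨by norm_num⟩
      obtain ⟨W, hW⟩ := sylow_of_card hG hJ (by decide +kernel) (by decide +kernel) _ ((hc U).trans hU)
      rw [← hW, (norm_big hG hz).2.2.2.1 W]; decide
    · haveI : Fact (Nat.Prime 43) := ⟨by norm_num⟩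
      obtain ⟨W, hW⟩ := sylow_of_card hG hJ (by decide +kernel) (by decide +kernel) _ ((hc U).trans hU)
      rw [← hW, (norm_big hG hz).2.2.2.2 W]; decide
  · haveI : Fact (Nat.Prime 11) := ⟨by norm_num⟩
    have h := eleven_count hG hz (M.comap e.toMonoidHom) (by rwa [hc])
    let f : ↥(M.comap e.toMonoidHom) ≃* ↥M :=
      ((M.comap e.toMonoidHom).equivMapOfInjective e.toMonoidHom e.injective).trans (MulEquiv.subgroupCongr (hback M))
    rwa [card_sylow_congr f] at h
  · haveI : Fact (Nat.Prime 11) := ⟨by norm_num⟩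
    obtain ⟨W, hW⟩ := sylow_of_card hG hJ (by decide +kernel) (by decide +kernel) _ ((hc U).trans hU)
    have h := coatom_eleven hG hz W
    rw [hW] at h
    have h2 := (e.mapSubgroup.isCoatom_iff _).mpr h
    have e' : e.mapSubgroup (normalizer ((U.comap e.toMonoidHom : Subgroup G) : Set G)) =
        normalizer (U : Set Spor.J4) := by
      conv_rhs => rw [← hback U, ← map_equiv_normalizer_eq]
      rfl
    rwa [e'] at h2
  · rw [← (Cfsg.Lib.JankoFour.ClassNumber.el_X Cfsg.Lib.JankoFour.ClassNumber.pool).1]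
    exact Cfsg.Lib.JankoFour.ClassNumber.cent_X11 Cfsg.Lib.JankoFour.ClassNumber.pool F

end Cfsg.Lib.J4NonLocal
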