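import Cfsg.Agent.J4NonLocal.Count
import Cfsg.Agent.J4Maximal.Base

/-!
Letters that normalise a cyclic subgroup of prime order given by a word, and the count inside an overgroup.
-/

set_option autoImplicit false
set_option maxRecDepth 8000
set_option synthInstance.maxSize 4000
set_option linter.style.haveILetI false

namespace Cfsg.Lib.J4NonLocal

open Cfsg Cfsg.Lib.J4Cert Subgroup

theorem normal_of_conj {g s : Spor.J4} (a : ℕ) (e : g * s ^ a = s * g) :
    g ∈ normalizer (zpowers s : Set Spor.J4) := by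
  haveI := finite_J4
  have hle : (zpowers s).map (MulAut.conj g⁻¹).toMonoidHom ≤ zpowers s := by
    rw [MonoidHom.map_zpowers, zpowers_le]
    refine mem_zpowers_iff.mpr ⟨a, ?_⟩
    show s ^ (a : ℤ) = g⁻¹ * s * (g⁻¹)⁻¹
    rw [zpow_natCast, inv_inv, mul_assoc, ← e, inv_mul_cancel_left]
  have he := eq_of_le_of_card_ge hle
    (le_of_eq (card_map_of_injective (f := (MulAut.conj g⁻¹).toMonoidHom) (MulAut.conj g⁻¹).injective).symm)
  rw [← inv_mem_iff, mem_normalizer_iff]
  intro u
  refine ⟨fun hu => hle ⟨u, hu, rfl⟩, fun hu => ?_⟩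
  rw [← he] at hu
  obtain ⟨t, ht, e'⟩ := hu
  rwa [← (MulAut.conj g⁻¹).injective e']

variable {pm pt : List (List ℕ)} (P : Pool pm pt)

theorem Pool.ev_flatten_rep (l : List ℕ) : ∀ n : ℕ, P.ev (List.replicate n l).flatten = P.ev l ^ n
  | 0 => by rw [pow_zero (P.ev l)]; rfl
  | n + 1 => by
    rw [List.replicate_succ, List.flatten_cons, P.ev_append, ev_flatten_rep l n, pow_succ' (P.ev l)]

theorem Pool.normalizes {w : List ℕ} {ex : List (ℕ × ℕ)}
    (h : (ex.all fun e => sameW pm ([e.1] ++ (List.replicate e.2 w).flatten) (w ++ [e.1])) = true) :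
    ∀ k ∈ ex.map Prod.fst, P.el k ∈ normalizer (zpowers (P.ev w) : Set Spor.J4) := by
  intro k hk
  obtain ⟨e, he, rfl⟩ := List.mem_map.mp hk
  have h' := P.ev_eq (List.all_eq_true.mp h e he)
  rw [P.ev_append, P.ev_append, P.ev_flatten_rep, P.ev_single] at h'
  exact normal_of_conj e.2 h'

/-- The row of a Sylow subgroup of prime order inside a subgroup, with an exact normaliser count. -/
theorem sound_exact {q : ℕ} [Fact q.Prime] {M : Subgroup Spor.J4} (U : Sylow q Spor.J4)
    (hU : (U : Subgroup Spor.J4) ≤ M) {r : J4Maximal.Row} (hpart : Nat.card (U : Subgroup Spor.J4) = r.part)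
    (he : Nat.card ↥(M ⊓ normalizer ((U : Subgroup Spor.J4) : Set Spor.J4)) = J4Maximal.prodPow r.nf)
    (hlow : r.low ∣ J4Maximal.prodPow r.nf) (hb : r.bad = 0) (hm : Nat.card (Sylow q M) % r.m = 1) :
    r.Sound (Nat.card M) := fun _ => by
  haveI := finite_J4
  refine ⟨_, dvd_refl _, he ▸ hpart ▸ card_dvd_of_le (le_inf hU le_normalizer), hlow,
    hb ▸ he ▸ Nat.card_pos.ne', he ▸ card_dvd_of_le inf_le_left, ?_⟩
  rw [← he, ← J4Maximal.sylow_count M U hU]
  exact hm

end Cfsg.Lib.J4NonLocal
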