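import Cfsg.Agent.J4NonLocal.Env

/-!
The Sylow rows for subgroups of the presented fourth Janko group, and the primes 29, 37 and 43 in proper subgroups.
-/

set_option autoImplicit false
set_option maxRecDepth 8000
set_option synthInstance.maxSize 4000
set_option linter.style.haveILetI false

namespace Cfsg.Lib.J4NonLocal

open Cfsg Subgroup Cfsg.Lib.J4Maximal

namespace Env

variable (E : Env)
include E

theorem part {q n : ℕ} (hq : q.Prime) (h1 : q ^ n ∣ ordJ) (h2 : ¬ q ^ (n + 1) ∣ ordJ) :
    q ^ (Nat.card Spor.J4).factorization q = q ^ n := by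
  rw [E.card]
  congr 1
  refine le_antisymm ?_ ((hq.pow_dvd_iff_le_factorization (by decide)).mp h1)
  by_contra h
  exact h2 ((hq.pow_dvd_iff_le_factorization (by decide)).mpr (by omega))

theorem sylow_card {q n : ℕ} [Fact q.Prime] (h1 : q ^ n ∣ ordJ) (h2 : ¬ q ^ (n + 1) ∣ ordJ) (U : Sylow q Spor.J4) :
    Nat.card (U : Subgroup Spor.J4) = q ^ n := by
  haveI := Cfsg.Lib.J4Cert.finite_J4
  rw [U.card_eq_multiplicity, E.part Fact.out h1 h2]

theorem not_big {M : Subgroup Spor.J4} (hM : M ≠ ⊤) :
    ¬ (29 ∣ Nat.card M ∧ 37 ∣ Nat.card M ∧ 43 ∣ Nat.card M) := fun h => hM (E.top M h.1 h.2.1 h.2.2)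

/-- The row of a prime whose Sylow subgroups have prime order. -/
theorem sound_prime {q N : ℕ} (hq : q.Prime) (hmem : (q, 1, N) ∈ [(5, 1, 26880), (7, 1, 2520), (11, 3, 319440),
      (23, 1, 506), (29, 1, 812), (31, 1, 310), (37, 1, 444), (43, 1, 602)])
    (h1 : q ^ 1 ∣ ordJ) (h2 : ¬ q ^ (1 + 1) ∣ ordJ) (r : Row) (hp : r.part = q) (hm : r.m = q)
    (hnf : prodPow r.nf = N) (hl : r.low = 1) (hb : r.bad = 0) (M : Subgroup Spor.J4) :
    r.Sound (Nat.card M) := by
  haveI := Cfsg.Lib.J4Cert.finite_J4
  haveI : Fact q.Prime := ⟨hq⟩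
  exact sound_all (q := q) (by rw [E.part hq h1 h2, pow_one, hp])
    (fun U => by rw [hnf]; exact E.norm q 1 N hmem U (E.sylow_card h1 h2 U)) hl
    (fun U _ => hb ▸ inf_norm_pos M U) fun _ => by rw [hm]; exact mod_q M

theorem sound5 (M : Subgroup Spor.J4) : (r5 1).Sound (Nat.card M) :=
  E.sound_prime (q := 5) (N := 26880) (by norm_num) (by simp) (by decide +kernel) (by decide +kernel) _ rfl rfl
    (by decide +kernel) rfl rfl M

theorem sound7 (M : Subgroup Spor.J4) : (r7 1).Sound (Nat.card M) :=
  E.sound_prime (q := 7) (N := 2520) (by norm_num) (by simp) (by decide +kernel) (by decide +kernel) _ rfl rfl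
    (by decide +kernel) rfl rfl M

theorem sound23 (M : Subgroup Spor.J4) : (r23 1).Sound (Nat.card M) :=
  E.sound_prime (q := 23) (N := 506) (by norm_num) (by simp) (by decide +kernel) (by decide +kernel) _ rfl rfl
    (by decide +kernel) rfl rfl M

theorem sound29 (M : Subgroup Spor.J4) : r29.Sound (Nat.card M) :=
  E.sound_prime (q := 29) (N := 812) (by norm_num) (by simp) (by decide +kernel) (by decide +kernel) _ rfl rfl
    (by decide +kernel) rfl rfl M

theorem sound31 (M : Subgroup Spor.J4) : (r31 1).Sound (Nat.card M) :=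
  E.sound_prime (q := 31) (N := 310) (by norm_num) (by simp) (by decide +kernel) (by decide +kernel) _ rfl rfl
    (by decide +kernel) rfl rfl M

theorem sound37 (M : Subgroup Spor.J4) : r37.Sound (Nat.card M) :=
  E.sound_prime (q := 37) (N := 444) (by norm_num) (by simp) (by decide +kernel) (by decide +kernel) _ rfl rfl
    (by decide +kernel) rfl rfl M

theorem sound43 (M : Subgroup Spor.J4) : (r43 0).Sound (Nat.card M) :=
  E.sound_prime (q := 43) (N := 602) (by norm_num) (by simp) (by decide +kernel) (by decide +kernel) _ rfl rfl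
    (by decide +kernel) rfl rfl M

theorem sound11 (M : Subgroup Spor.J4) : r11.Sound (Nat.card M) := by
  haveI := Cfsg.Lib.J4Cert.finite_J4
  haveI : Fact (Nat.Prime 11) := ⟨by norm_num⟩
  refine sound_all (q := 11) ((E.part (n := 3) (by norm_num) (by decide +kernel) (by decide +kernel)).trans (by decide))
    (fun U => ?_) rfl (fun U _ => inf_norm_pos M U) fun h => E.eleven M (by norm_num; exact h)
  rw [E.norm 11 3 319440 (by simp) U (E.sylow_card (by decide +kernel) (by decide +kernel) U)]
  decide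

end Env

end Cfsg.Lib.J4NonLocal
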