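import Cfsg.Agent.J4Eleven.Main

/-!
Words in a list of elements of the fourth Janko group given by their matrices, and their action on vectors.
-/

set_option autoImplicit false
set_option maxRecDepth 8000
set_option synthInstance.maxSize 4000

namespace Cfsg.Lib.J4NonLocal

open Cfsg Cfsg.Lib.J4Cert

/-- The matrix of a letter. -/
def letA (pm : List (List ℕ)) (k : ℕ) : List ℕ := pm.getD k J4Rep.idMat

/-- The matrix of a word. -/
def wordA (pm : List (List ℕ)) : List ℕ → List ℕ
  | [] => J4Rep.idMat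
  | k :: w => mB (letA pm k) (wordA pm w)

/-- The table of a letter. -/
def letT (pt : List (List ℕ)) (k : ℕ) : List ℕ := pt.getD k []

/-- A word applied to a vector. -/
def act (pt : List (List ℕ)) : List ℕ → ℕ → ℕ
  | [], z => z
  | k :: w, z => act pt w (vt (letT pt k) z)

/-- A word applied repeatedly. -/
def rep (pt : List (List ℕ)) (w : List ℕ) : ℕ → ℕ → ℕ
  | 0, z => z
  | n + 1, z => rep pt w n (act pt w z)

/-- The tables belong to the matrices. -/
def poolOK (pm pt : List (List ℕ)) : Bool :=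
  pm.length == pt.length && (List.range pm.length).all fun k => leq (tabs4 (letA pm k)) (letT pt k)

/-- Two words have the same matrix. -/
def sameW (pm : List (List ℕ)) (a b : List ℕ) : Bool := leq (wordA pm a) (wordA pm b)

/-- A vector shows that the order of a word is divisible by a prime. -/
def ordCert (pt : List (List ℕ)) (n q : ℕ) (c : List ℕ × ℕ) : Bool :=
  c.1.all (fun k => Nat.blt k n) && decide (c.2 < 2 ^ 112) && (rep pt c.1 q c.2 == c.2) && (act pt c.1 c.2 != c.2)

/-- The image of a vector. -/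
noncomputable def img (g : Spor.J4) (z : J4Rep.Vec) : J4Rep.Vec := (rhoG g).symm z

theorem img_mul (g h : Spor.J4) (z : J4Rep.Vec) : img (g * h) z = img h (img g z) := by
  unfold img
  rw [map_mul]
  rfl

theorem img_one (z : J4Rep.Vec) : img 1 z = z := by
  unfold img
  rw [map_one]
  rfl

/-- A list of elements with their matrices and tables. -/
structure Pool (pm pt : List (List ℕ)) where
  /-- The elements. -/
  el : ℕ → Spor.J4
  ok : ∀ k, MOK (el k) (letA pm k)
  tab : poolOK pm pt = true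

theorem exists_pool {pm pt : List (List ℕ)} (hm : ∀ A ∈ pm, ∃ g, MOK g A) (h : poolOK pm pt = true) :
    Nonempty (Pool pm pt) := by
  have h' : ∀ k, ∃ g, MOK g (letA pm k) := fun k => by
    unfold letA
    by_cases hk : k < pm.length
    · rw [List.getD_eq_getElem _ _ hk]
      exact hm _ (List.getElem_mem hk)
    · rw [List.getD_eq_default _ _ (Nat.le_of_not_lt hk)]
      exact ⟨1, MOK.one⟩
  choose f hf using h'
  exact ⟨⟨f, hf, h⟩⟩

theorem mem_map_nd {nd : ℕ → List ℕ} {n : ℕ} (h : ∀ j < n, ∃ g, MOK g (nd j)) {pn : List ℕ}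
    (hn : pn.all (fun j => Nat.blt j n) = true) : ∀ A ∈ pn.map nd, ∃ g, MOK g A := by
  intro A hA
  obtain ⟨j, hj, rfl⟩ := List.mem_map.mp hA
  exact h j (Nat.blt_eq.mp (List.all_eq_true.mp hn j hj))

namespace Pool

variable {pm pt : List (List ℕ)} (P : Pool pm pt)

/-- The value of a word. -/
def ev (l : List ℕ) : Spor.J4 := (l.map P.el).prod

theorem ev_nil : P.ev [] = 1 := rfl

theorem ev_cons (k : ℕ) (l : List ℕ) : P.ev (k :: l) = P.el k * P.ev l := List.prod_cons

theorem ev_single (k : ℕ) : P.ev [k] = P.el k := mul_one _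

theorem ev_append (l m : List ℕ) : P.ev (l ++ m) = P.ev l * P.ev m := by
  rw [ev, List.map_append, List.prod_append]
  rfl

theorem ev_rep (k n : ℕ) : P.ev (List.replicate n k) = P.el k ^ n := by
  rw [ev, List.map_replicate, List.prod_replicate]

theorem ev_ok : ∀ l : List ℕ, MOK (P.ev l) (wordA pm l)
  | [] => MOK.one
  | k :: l => P.ev_cons k l ▸ (P.ok k).mul (ev_ok l)

theorem ev_eq {a b : List ℕ} (h : sameW pm a b = true) : P.ev a = P.ev b :=
  J4Eleven.eq_of_leq (P.ev_ok a) (P.ev_ok b) h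

theorem ev_ne_one {a : List ℕ} (h : sameW pm a [] = false) : P.ev a ≠ 1 :=
  J4Eleven.ne_one_of (P.ev_ok a) h

theorem img_el {k : ℕ} (hk : k < pm.length) (z : J4Rep.Vec) : (img (P.el k) z).1 = vt (letT pt k) z.1 := by
  have h := P.tab
  simp only [poolOK, Bool.and_eq_true, List.all_eq_true, List.mem_range] at h
  have e := leq_eq (h.2 k hk)
  have hok := (P.ok k).1
  simp only [okMat, Bool.and_eq_true, List.all_eq_true, decide_eq_true_eq] at hok
  unfold img
  rw [(P.ok k).2 z, ← e, vt_eq _ _ hok.2 (by rw [Nat.eq_of_beq_eq_true hok.1])]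

theorem act_eq : ∀ (l : List ℕ), (∀ k ∈ l, k < pm.length) → ∀ z : J4Rep.Vec, act pt l z.1 = (img (P.ev l) z).1
  | [], _, z => by rw [P.ev_nil, img_one]; rfl
  | k :: l, hl, z => by
    rw [P.ev_cons, img_mul, act, ← P.img_el (hl k List.mem_cons_self) z]
    exact act_eq l (fun j hj => hl j (List.mem_cons_of_mem _ hj)) _

theorem rep_eq (l : List ℕ) (hl : ∀ k ∈ l, k < pm.length) : ∀ (n : ℕ) (z : J4Rep.Vec),
    rep pt l n z.1 = (img (P.ev l ^ n) z).1
  | 0, z => by rw [pow_zero (P.ev l), img_one]; rfl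
  | n + 1, z => by
    rw [pow_succ' (P.ev l) n, img_mul, rep, P.act_eq l hl z]
    exact rep_eq l hl n _

theorem dvd_order {q : ℕ} (hq : q.Prime) {c : List ℕ × ℕ} (h : ordCert pt pm.length q c = true) :
    q ∣ orderOf (P.ev c.1) := by
  simp only [ordCert, Bool.and_eq_true, List.all_eq_true, decide_eq_true_eq, beq_iff_eq, bne_iff_ne,
    Nat.blt_eq] at h
  obtain ⟨⟨⟨hl, hz⟩, h1⟩, h2⟩ := h
  set g := P.ev c.1
  set Z : J4Rep.Vec := ⟨c.2, hz⟩
  have hfix : img (g ^ q) Z = Z := Subtype.ext (by rw [← P.rep_eq c.1 hl q Z]; exact h1)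
  have hmv : img g Z ≠ Z := fun e => h2 (by rw [show c.2 = Z.1 from rfl, P.act_eq c.1 hl Z, e])
  by_contra hd
  obtain ⟨m, hm⟩ := exists_pow_eq_self_of_coprime ((Nat.Prime.coprime_iff_not_dvd hq).mpr hd)
  apply hmv
  rw [← hm]
  clear hm
  induction m with
  | zero => rw [pow_zero (g ^ q), img_one]
  | succ m ih => rw [pow_succ' (g ^ q) m, img_mul, hfix, ih]

theorem ev_mem {H : Subgroup Spor.J4} {l : List ℕ} (h : ∀ k ∈ l, P.el k ∈ H) : P.ev l ∈ H :=
  list_prod_mem (fun x hx => by obtain ⟨k, hk, rfl⟩ := List.mem_map.mp hx; exact h k hk)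

end Pool

end Cfsg.Lib.J4NonLocal
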